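import Cfsg.Agent.H525.Ppd.URank

/-!
# Lower bounds for the rank of `h ^ a`, `a` a multiple of `1 + Q + ... + Q ^ (N - 1)`, `Q ^ N = q ^ 2` (helper525)

* `ker_bound` : the rank is at least `6` for `N = 2` and at least `6 N` for `N ≥ 3`.
-/

set_option autoImplicit false
set_option linter.unusedSectionVars false

namespace Cfsg.Agent.H525.Ppd

open Cfsg Cfsg.Agent.LieClassical.HermSiegel Cfsg.Agent.LieClassical.HermBasic Matrix Cfsg.Agent.H906
  Cfsg.Agent.H929.U3 Cfsg.Agent.H929.U3.Dig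

section Digits

variable {p : ℕ} [hp : Fact p.Prime]

theorem dc_add {m l u v : ℕ} (hu : u < p ^ m) : dc p (m + l) (u + p ^ m * v) = dc p m u * dc p l v := by
  have hpos := hp.out.pos
  induction m generalizing u with
  | zero =>
    rw [pow_zero, Nat.lt_one_iff] at hu
    subst hu
    rw [dc_zero, one_mul, zero_add, zero_add, pow_zero, one_mul]
  | succ m ih =>
    have h1 : (u + p ^ (m + 1) * v) % p = u % p := by
      rw [pow_succ', mul_assoc, Nat.add_mul_mod_self_left]
    have h2 : (u + p ^ (m + 1) * v) / p = u / p + p ^ m * v := by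
      rw [pow_succ', mul_assoc, Nat.add_mul_div_left _ _ hpos]
    have h3 : u / p < p ^ m := by
      rw [Nat.div_lt_iff_lt_mul hpos, ← pow_succ]
      exact hu
    rw [show m + 1 + l = (m + l) + 1 by omega, dc_succ, dc_succ, h1, h2, ih h3, mul_assoc]

/-- the repunit -/
def rep (Q c N : ℕ) : ℕ := c * ∑ i ∈ Finset.range N, Q ^ i

theorem rep_succ (Q c N : ℕ) : rep Q c (N + 1) = c + Q * rep Q c N := by
  unfold rep
  rw [Finset.sum_range_succ', mul_add, pow_zero, mul_one, add_comm, Finset.mul_sum, Finset.mul_sum, Finset.mul_sum]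
  congr 1
  refine Finset.sum_congr rfl fun i _ => ?_
  rw [pow_succ]
  ring

theorem dc_rep {s c : ℕ} (hc : c < p ^ s) (N : ℕ) : dc p (N * s) (rep (p ^ s) c N) = dc p s c ^ N := by
  induction N with
  | zero => rw [zero_mul, pow_zero, dc_zero]
  | succ N ih =>
    rw [rep_succ, show (N + 1) * s = s + N * s by ring, dc_add hc, ih, pow_succ']

theorem rep_lt {Q c N : ℕ} (hc : c < Q) : rep Q c N < Q ^ N := by
  induction N with
  | zero => simp [rep]
  | succ N ih =>
    rw [rep_succ, pow_succ']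
    have h1 : Q * (rep Q c N + 1) ≤ Q * Q ^ N := Nat.mul_le_mul_left _ ih
    rw [mul_add, mul_one] at h1
    omega

theorem rep_pos {Q c N : ℕ} (hc : 1 ≤ c) (hN : 1 ≤ N) : 1 ≤ rep Q c N := by
  obtain ⟨M, rfl⟩ : ∃ M, N = M + 1 := ⟨N - 1, by omega⟩
  rw [rep_succ]
  omega

/-- rotation with the number of nonvanishing binomials -/
theorem rotate' {f a' a'' k : ℕ} (ha' : a' < p ^ f) (ha'' : a'' < p ^ f) (hk : k < f)
    (hs : a' / p ^ k % p + a'' / p ^ k % p + 2 ≤ p) :
    ∃ m u' v' u'' v'', m ≤ f ∧ a' = u' + p ^ m * v' ∧ a'' = u'' + p ^ m * v'' ∧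
      (v' + p ^ (f - m) * u'') + (v'' + p ^ (f - m) * u') + 2 ≤ p ^ f ∧
      dc p f (v' + p ^ (f - m) * u'') * dc p f (v'' + p ^ (f - m) * u') = dc p f a' * dc p f a'' := by
  have hpos := hp.out.pos
  refine ⟨k + 1, a' % p ^ (k + 1), a' / p ^ (k + 1), a'' % p ^ (k + 1), a'' / p ^ (k + 1), hk,
    (Nat.mod_add_div _ _).symm, (Nat.mod_add_div _ _).symm, ?_, ?_⟩
  · obtain ⟨g, rfl⟩ : ∃ g, f = g + (k + 1) := ⟨f - (k + 1), by omega⟩
    rw [Nat.add_sub_cancel]
    have key : ∀ b c : ℕ, b < p ^ (g + (k + 1)) →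
        b / p ^ (k + 1) + p ^ g * (c % p ^ (k + 1)) + 1 ≤ p ^ (g + k) * (c / p ^ k % p + 1) := by
      intro b c hb
      have h1 : b / p ^ (k + 1) + 1 ≤ p ^ g := by
        rw [Nat.succ_le_iff, Nat.div_lt_iff_lt_mul (pow_pos hpos _), ← pow_add]
        exact hb
      have h2 : c % p ^ k + 1 ≤ p ^ k := Nat.mod_lt _ (pow_pos hpos _)
      have h3 : p ^ g * (c % p ^ k + 1) ≤ p ^ g * p ^ k := Nat.mul_le_mul_left _ h2
      rw [Nat.mod_pow_succ, pow_add p g k]
      calc b / p ^ (k + 1) + p ^ g * (c % p ^ k + p ^ k * (c / p ^ k % p)) + 1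
          ≤ p ^ g + p ^ g * (c % p ^ k + p ^ k * (c / p ^ k % p)) := by omega
        _ = p ^ g * (c % p ^ k + 1) + p ^ g * p ^ k * (c / p ^ k % p) := by ring
        _ ≤ p ^ g * p ^ k + p ^ g * p ^ k * (c / p ^ k % p) := by omega
        _ = p ^ g * p ^ k * (c / p ^ k % p + 1) := by ring
    have h1 := key a' a'' ha'
    have h2 := key a'' a' ha''
    have h3 : p ^ (g + k) * (a' / p ^ k % p + a'' / p ^ k % p + 2) ≤ p ^ (g + k) * p := Nat.mul_le_mul_left _ hs
    have h4 : p ^ (g + (k + 1)) = p ^ (g + k) * p := by rw [← pow_succ]; rfl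
    rw [h4]
    have h5 : p ^ (g + k) * (a' / p ^ k % p + a'' / p ^ k % p + 2) =
        p ^ (g + k) * (a' / p ^ k % p + 1) + p ^ (g + k) * (a'' / p ^ k % p + 1) := by ring
    omega
  · obtain ⟨g, rfl⟩ : ∃ g, f = g + (k + 1) := ⟨f - (k + 1), by omega⟩
    rw [Nat.add_sub_cancel]
    have hlt : ∀ b : ℕ, b < p ^ (g + (k + 1)) → b / p ^ (k + 1) < p ^ g := by
      intro b hb
      rw [Nat.div_lt_iff_lt_mul (pow_pos hpos _), ← pow_add]
      exact hb
    have e1 : ∀ b : ℕ, dc p (g + (k + 1)) b = dc p (k + 1) (b % p ^ (k + 1)) * dc p g (b / p ^ (k + 1)) := by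
      intro b
      conv_lhs => rw [← Nat.mod_add_div b (p ^ (k + 1)), add_comm g, dc_add (Nat.mod_lt _ (pow_pos hpos _))]
    rw [dc_add (hlt _ ha'), dc_add (hlt _ ha''), e1 a', e1 a'']
    ring

end Digits

/-! ### Numbers -/

theorem pow_bound {N : ℕ} (hN : 4 ≤ N) : 6 * N + 1 ≤ 2 * 2 ^ N := by
  induction N, hN using Nat.le_induction with
  | base => norm_num
  | succ n hn ih =>
    rw [pow_succ]
    omega

theorem pow_bound3 {N : ℕ} (hN : 4 ≤ N) : (2 * N) ^ 2 ≤ 3 ^ N := by
  induction N, hN using Nat.le_induction with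
  | base => norm_num
  | succ n hn ih =>
    have h1 : 3 ^ (n + 1) = 3 ^ n * 3 := pow_succ 3 n
    have h2 : (2 * (n + 1)) ^ 2 = (2 * n) ^ 2 + 8 * n + 4 := by ring
    have h3 : 4 * n ≤ n * n := Nat.mul_le_mul_right _ hn
    have h4 : (2 * n) ^ 2 = 4 * (n * n) := by ring
    omega

theorem pow_bound8 {f : ℕ} (hf : 2 ≤ f) : 12 * f ≤ (2 ^ f) ^ 3 := by
  rw [← pow_mul, mul_comm f 3, pow_mul]
  norm_num
  induction f, hf using Nat.le_induction with
  | base => norm_num
  | succ n hn ih =>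
    rw [pow_succ]
    omega

section

variable {E : Type*} [Field E] [Fintype E] {q : ℕ} {K : Type*} [Field K] {κ : Type} [Fintype κ] [DecidableEq κ]
  {p : ℕ} [hp : Fact p.Prime] [CharP E p] [CharP K p]

/-- the bound of `rank_two` with `dc` -/
theorem rank_two' (hF : Fintype.card E = q ^ 2) {f : ℕ} (hq : q = p ^ f) {j : E →+* K} {a' a'' : ℕ}
    {Φ V : Iso q E → κ → K} (h : Ker q j (a' + q * a'') Φ V) (ha : a' + a'' < q) :
    2 * (dc p f a' * dc p f a'') ≤ Fintype.card κ + 1 := by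
  classical
  have h1 := h.rank_two hF ha
  have hdc : ∀ a, ((Finset.range q).filter fun i => ((a.choose i : ℕ) : K) ≠ 0).card = dc p f a := by
    intro a
    unfold dc
    rw [← hq]
    congr 1
    ext i
    rw [Finset.mem_filter, Finset.mem_filter, cast_ne_iff (p := p)]
    rfl
  rwa [hdc, hdc] at h1

/-- **the bound** -/
theorem ker_bound (hF : Fintype.card E = q ^ 2) {f : ℕ} (hq : q = p ^ f) {j : E →+* K} {Φ V : Iso q E → κ → K}
    {s N c : ℕ} (hNs : N * s = f + f) (hc1 : 1 ≤ c) (hc : c < p ^ s) (h : Ker q j (rep (p ^ s) c N) Φ V)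
    (hN : 2 ≤ N) : 6 ≤ Fintype.card κ ∧ (3 ≤ N → 6 * N ≤ Fintype.card κ) := by
  classical
  have hp2 := hp.out.two_le
  have hpos := hp.out.pos
  have hq2 := two_le hF
  have hf0 : 0 < f := by
    rcases Nat.eq_zero_or_pos f with h0 | h0
    · rw [h0, pow_zero] at hq
      omega
    · exact h0
  have hs0 : 0 < s := by
    rcases Nat.eq_zero_or_pos s with h0 | h0
    · rw [h0, mul_zero] at hNs
      omega
    · exact h0
  set Q := p ^ s with hQ
  have hQ2 : 2 ≤ Q := by
    have : p ^ 1 ≤ p ^ s := Nat.pow_le_pow_right hpos hs0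
    rw [pow_one] at this
    omega
  have hQN : Q ^ N = q ^ 2 := by
    rw [hQ, hq, ← pow_mul, ← pow_mul, mul_comm s, hNs]
    ring
  set a := rep Q c N with ha
  have halt : a < q ^ 2 := by rw [← hQN]; exact rep_lt hc
  have ha1 : 1 ≤ a := rep_pos hc1 (by omega)
  obtain ⟨a', a'', haa, ha', ha''⟩ : ∃ a' a'', a = a' + q * a'' ∧ a' < q ∧ a'' < q := by
    refine ⟨a % q, a / q, (Nat.mod_add_div _ _).symm, Nat.mod_lt _ (by omega), ?_⟩
    rw [Nat.div_lt_iff_lt_mul (by omega), ← pow_two]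
    exact halt
  set d := dc p s c with hd
  have hd2 : 2 ≤ d := two_le_dc hc1 hc
  have hD : dc p f a' * dc p f a'' = d ^ N := by
    rw [← dc_rep hc N, hNs, ← dc_add (hq ▸ ha'), ← hq, ← haa]
  -- the numeric consequence of `rank_two`
  have hnum : 2 * d ^ N ≤ Fintype.card κ + 1 → 6 ≤ Fintype.card κ ∧ (3 ≤ N → 6 * N ≤ Fintype.card κ) := by
    intro h1
    have h2 : 2 ^ N ≤ d ^ N := Nat.pow_le_pow_left hd2 N
    have h3 : 2 ^ 2 ≤ 2 ^ N := Nat.pow_le_pow_right (by norm_num) hN
    refine ⟨by omega, fun hN3 => ?_⟩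
    by_cases hN4 : 4 ≤ N
    · have := pow_bound hN4
      omega
    · obtain rfl : N = 3 := by omega
      by_cases hd3 : 3 ≤ d
      · have h4 : 3 ^ 3 ≤ d ^ 3 := Nat.pow_le_pow_left hd3 3
        omega
      · have hd2' : dc p s c = 2 := by omega
        obtain ⟨k, c₁, hck, hc₁⟩ := classify hc1 hc (by omega)
        obtain rfl : c₁ = 1 := by
          rcases hc₁ with h5 | ⟨i, -, -, h5⟩ <;> omega
        rw [mul_one] at hck
        obtain ⟨g, rfl⟩ : ∃ g, s = 2 * g := ⟨s / 2, by omega⟩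
        have hf3 : f = 3 * g := by omega
        have hrot : Rot E p a ((1 + (p ^ g) ^ 2) + q * p ^ g) := by
          have h6 : a = p ^ k * ((1 + (p ^ g) ^ 2) + q * p ^ g) := by
            rw [ha, rep, hck, hQ, hq, hf3]
            congr 1
            rw [Finset.sum_range_succ, Finset.sum_range_succ, Finset.sum_range_one]
            ring
          rw [h6]
          exact Rot.mul p k _
        obtain ⟨j', h'⟩ := h.rot hrot
        have := rank_triple (p := p) hF (by omega : 0 < g) (by rw [hq, hf3, ← pow_mul]; ring_nf) h'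
        omega
  rw [haa] at h
  by_cases hsum : a' + a'' < q
  · apply hnum
    have := rank_two' (p := p) hF hq h hsum
    rwa [hD] at this
  push Not at hsum
  by_cases hs : ∀ k < f, p ≤ a' / p ^ k % p + a'' / p ^ k % p + 1
  · have hcov := exists_cover_res (K := K) (p := p) hF hq ha' ha'' hs hsum
    by_cases hQ3 : 3 ≤ Q
    · have h1 := rank_planes' hF h (by rw [← haa]; exact halt) hcov
      refine ⟨by omega, fun hN3 => ?_⟩
      have h2 : 2 * N ≤ q := by
        have h3 : (2 * N) ^ 2 ≤ q ^ 2 := by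
          rw [← hQN]
          by_cases hN4 : 4 ≤ N
          · exact (pow_bound3 hN4).trans (Nat.pow_le_pow_left hQ3 N)
          · obtain rfl : N = 3 := by omega
            have h4 : 4 ≤ Q := by
              obtain ⟨g, rfl⟩ : ∃ g, s = 2 * g := ⟨s / 2, by omega⟩
              have h5 : p ^ 2 ≤ p ^ (2 * g) := Nat.pow_le_pow_right hpos (by omega)
              have h6 : 2 ^ 2 ≤ p ^ 2 := Nat.pow_le_pow_left hp2 2
              omega
            have h5 : 4 ^ 3 ≤ Q ^ 3 := Nat.pow_le_pow_left h4 3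
            omega
        exact (Nat.pow_le_pow_iff_left (by norm_num)).1 h3
      omega
    · -- `Q = 2` : the Steinberg module
      have hQe : Q = 2 := by omega
      have hce : c = 1 := by omega
      have hrep : ∀ M, rep 2 1 M + 1 = 2 ^ M := by
        intro M
        induction M with
        | zero => simp [rep]
        | succ M ih =>
          rw [rep_succ, pow_succ]
          omega
      have hae : a = q ^ 2 - 1 := by
        have := hrep N
        rw [ha, hQe, hce, ← hQN, hQe]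
        omega
      rw [← haa, hae] at h
      have h1 := h.steinberg hF
      have hs1 : s = 1 ∧ p = 2 := by
        have h2 : s < 2 := by
          by_contra hcon
          have h3 : p ^ 2 ≤ p ^ s := Nat.pow_le_pow_right hpos (by omega)
          have h4 : 2 ^ 2 ≤ p ^ 2 := Nat.pow_le_pow_left hp2 2
          omega
        have h3 : s = 1 := by omega
        rw [h3, pow_one] at hQ
        exact ⟨h3, by omega⟩
      obtain ⟨hs1, hp22⟩ := hs1
      have h8 : 2 ^ 3 ≤ q ^ 3 := Nat.pow_le_pow_left hq2 3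
      refine ⟨by omega, fun hN3 => ?_⟩
      rw [hs1, mul_one] at hNs
      have h3 := pow_bound8 (f := f) (by omega)
      rw [hp22] at hq
      rw [← hq] at h3
      omega
  · push Not at hs
    obtain ⟨k, hk, hs⟩ := hs
    obtain ⟨m, u', v', u'', v'', hm, h1, h2, h3, h4⟩ := rotate' (p := p) (hq ▸ ha') (hq ▸ ha'') hk (by omega)
    have hrot : Rot E p (a' + q * a'') ((v' + p ^ (f - m) * u'') + q * (v'' + p ^ (f - m) * u')) := by
      rw [h1, h2]
      exact Rot.rotate hF hq hm
    obtain ⟨j', h'⟩ := h.rot hrot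
    apply hnum
    have := rank_two' (p := p) hF hq h' (by omega)
    rw [h4, hD] at this
    exact this

end

end Cfsg.Agent.H525.Ppd
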