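import Cfsg.Agent.H929.UThreeModel

/-!
# The rank of `h ^ a` on the isotropic vectors of a Hermitian plane curve (helper525)

Continuation of `H929/UThreePlanes`, `H929/UThreeClass`:
* `rank_planes'` : `3 q ≤ rank` if every residue modulo `q + 1` is covered;
* `rank_triple` : `27 ≤ rank` for `a = 1 + r ^ 2 + r ^ 4`, `q = r ^ 3`, `r = p ^ g`.
-/

set_option autoImplicit false
set_option linter.unusedSectionVars false

namespace Cfsg.Agent.H525.Ppd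

open Cfsg Cfsg.Agent.LieClassical.HermSiegel Cfsg.Agent.LieClassical.HermBasic Matrix Cfsg.Agent.H906
  Cfsg.Agent.H929.U3 Cfsg.Agent.H929.U3.Dig

variable {E : Type*} [Field E] [Fintype E] {q : ℕ} {K : Type*} [Field K] {κ : Type} [Fintype κ] [DecidableEq κ]

/-- **three planes** -/
theorem rank_planes' (hF : Fintype.card E = q ^ 2) {j : E →+* K} {a : ℕ} {Φ V : Iso q E → κ → K} (h : Ker q j a Φ V)
    (ha : a < q ^ 2) (hcov : ∀ i, ∃ k, ((a.choose k : ℕ) : K) ≠ 0 ∧ q + 1 ∣ i + k) :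
    3 * q ≤ Fintype.card κ := by
  classical
  have hq := two_le hF
  obtain ⟨ζ, hζ⟩ := exists_zeta hF
  obtain ⟨ε, hε⟩ := exists_norm_eq hF (c := (-1 : E)) (by rw [neg_pow_q hF, one_pow])
  have hζ1 : ζ * ζ ^ q = 1 := by rw [← pow_succ']; exact hζ.pow_eq_one
  have hζ0 : ζ ≠ 0 := by
    rintro rfl
    rw [zero_mul] at hζ1
    exact zero_ne_one hζ1
  have hε0 : ε ≠ 0 := by
    rintro rfl
    rw [zero_mul] at hε
    exact one_ne_zero (neg_eq_zero.1 hε.symm)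
  have ht : ∀ s : ℕ, (ε * ζ ^ s) * (ε * ζ ^ s) ^ q = -1 := by
    intro s
    have h1 : (ζ ^ s) * (ζ ^ s) ^ q = 1 := by
      rw [← pow_mul, mul_comm s q, pow_mul, ← mul_pow, hζ1, one_pow]
    rw [mul_pow]
    linear_combination (ζ ^ s * (ζ ^ s) ^ q) * hε - h1
  -- the root of unity in `K`
  have hω : IsPrimitiveRoot (j ζ) (q + 1) := hζ.map_of_injective j.injective
  -- rows
  let row : (i k : Fin 3) → i ≠ k → ℕ → κ → K := fun i k hik m =>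
    ∑ s ∈ Finset.range (q + 1), j ζ ^ (m * s) • Φ ⟨uP i k (ε * ζ ^ s), herm_uP_self hik (ht s), uP_ne hik _⟩
  have hrow : ∀ (i k : Fin 3) (hik : i ≠ k) (m : ℕ) (w : Iso q E),
      row i k hik m ⬝ᵥ V w = gP q j ε ζ a m (w.1 i) (w.1 k) := by
    intro i k hik m w
    simp only [row, gP, sum_dotProduct, smul_dotProduct, h.coef, herm_uP, smul_eq_mul]
  let Tw : Fin 3 → Iso q E → Iso q E := fun m w => ⟨tw ζ m w.1, by rw [herm_tw hζ1]; exact w.2.1, tw_ne hζ0 m w.2.2⟩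
  have hTw : ∀ m w l, (Tw m w).1 l = if l = m then ζ * w.1 l else w.1 l := fun _ _ _ => rfl
  have hd : ∀ m, j ζ ^ m = 1 ↔ q + 1 ∣ m := fun m => hω.pow_eq_one_iff_dvd m
  have h01 : (0 : Fin 3) ≠ 1 := by decide
  have h02 : (0 : Fin 3) ≠ 2 := by decide
  have h12 : (1 : Fin 3) ≠ 2 := by decide
  -- the good exponents for the third plane
  set S3 : Finset (Fin q) := Finset.univ.filter fun x => ¬ q + 1 ∣ a + (x + 1) with hS3
  have hS3c : q - 1 ≤ S3.card := by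
    have h1 : (Finset.univ.filter fun x : Fin q => q + 1 ∣ a + (x + 1)).card ≤ 1 := by
      rw [Finset.card_le_one]
      intro x hx y hy
      rw [Finset.mem_filter] at hx hy
      by_contra hne
      have hne' : (x : ℕ) ≠ y := fun h => hne (Fin.ext h)
      have hx2 := x.2
      have hy2 := y.2
      rcases lt_or_gt_of_ne hne' with hlt | hlt
      · have h3 := Nat.le_of_dvd (by omega) (Nat.dvd_sub hy.2 hx.2)
        omega
      · have h3 := Nat.le_of_dvd (by omega) (Nat.dvd_sub hx.2 hy.2)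
        omega
    have h2 : (Finset.univ.filter fun x : Fin q => q + 1 ∣ a + (x + 1)).card + S3.card = q := by
      rw [hS3]
      have h3 := Finset.card_filter_add_card_filter_not (s := (Finset.univ : Finset (Fin q)))
        (fun x : Fin q => q + 1 ∣ a + (x + 1))
      rw [Finset.card_univ, Fintype.card_fin] at h3
      exact h3
    omega
  let A : Fin (q + 1) ⊕ Fin q ⊕ S3 → κ → K := Sum.elim (fun m => row 0 1 h01 m)
    (Sum.elim (fun m => row 0 2 h02 (m + 1)) (fun m => row 1 2 h12 ((m : Fin q) + 1)))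
  let χ₁ : Fin (q + 1) ⊕ Fin q ⊕ S3 → K := Sum.elim (fun m => j ζ ^ (m : ℕ))
    (Sum.elim (fun _ => 1) (fun m => (j ζ ^ (a + (((m : Fin q) : ℕ) + 1)))⁻¹))
  let χ₂ : Fin (q + 1) ⊕ Fin q ⊕ S3 → K := Sum.elim (fun _ => 1)
    (Sum.elim (fun m => j ζ ^ ((m : ℕ) + 1)) (fun m => j ζ ^ (((m : Fin q) : ℕ) + 1)))
  have hcard := card_le_of_rows (V := V) A (indep_of_classes (Tw 1) (Tw 2) _ χ₁ χ₂ ?_ ?_ ?_ ?_)
  · rw [Fintype.card_sum, Fintype.card_sum, Fintype.card_fin, Fintype.card_fin, Fintype.card_coe] at hcard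
    omega
  · rintro (m | m | m) w
    · change row 0 1 h01 m ⬝ᵥ V (Tw 1 w) = j ζ ^ (m : ℕ) * (row 0 1 h01 m ⬝ᵥ V w)
      rw [hrow 0 1 h01, hrow 0 1 h01, hTw, hTw, if_neg h01, if_pos rfl, gP_right hζ]
    · change row 0 2 h02 (m + 1) ⬝ᵥ V (Tw 1 w) = 1 * (row 0 2 h02 (m + 1) ⬝ᵥ V w)
      rw [hrow 0 2 h02, hrow 0 2 h02, hTw, hTw, if_neg h01, if_neg h12.symm, one_mul]
    · change row 1 2 h12 ((m : Fin q) + 1) ⬝ᵥ V (Tw 1 w) =
        (j ζ ^ (a + (((m : Fin q) : ℕ) + 1)))⁻¹ * (row 1 2 h12 ((m : Fin q) + 1) ⬝ᵥ V w)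
      rw [hrow 1 2 h12, hrow 1 2 h12, hTw, hTw, if_pos rfl, if_neg h12.symm, gP_left hζ]
  · rintro (m | m | m) w
    · change row 0 1 h01 m ⬝ᵥ V (Tw 2 w) = 1 * (row 0 1 h01 m ⬝ᵥ V w)
      rw [hrow 0 1 h01, hrow 0 1 h01, hTw, hTw, if_neg h02, if_neg h12, one_mul]
    · change row 0 2 h02 (m + 1) ⬝ᵥ V (Tw 2 w) = j ζ ^ ((m : ℕ) + 1) * (row 0 2 h02 (m + 1) ⬝ᵥ V w)
      rw [hrow 0 2 h02, hrow 0 2 h02, hTw, hTw, if_neg h02, if_pos rfl, gP_right hζ]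
    · change row 1 2 h12 ((m : Fin q) + 1) ⬝ᵥ V (Tw 2 w) =
        j ζ ^ (((m : Fin q) : ℕ) + 1) * (row 1 2 h12 ((m : Fin q) + 1) ⬝ᵥ V w)
      rw [hrow 1 2 h12, hrow 1 2 h12, hTw, hTw, if_neg h12, if_pos rfl, gP_right hζ]
  · have key : ∀ i : ℕ, ∃ β, gP q j ε ζ a i 1 β ≠ 0 := by
      intro i
      obtain ⟨k, hk, hik⟩ := hcov i
      exact exists_gP_ne hF hζ hε0 ha hk hik
    rintro (m | m | m) h0
    · obtain ⟨β, hβ⟩ := key m
      obtain ⟨γ, hγ⟩ := exists_gamma hF β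
      have h1 := congrFun h0 ⟨![1, β, γ], by
        rw [herm_def, Fin.sum_univ_three]
        simp [hγ], fun hh => by simpa using congrFun hh 0⟩
      change row 0 1 h01 m ⬝ᵥ V _ = 0 at h1
      rw [hrow 0 1 h01] at h1
      exact hβ h1
    · obtain ⟨β, hβ⟩ := key (m + 1)
      obtain ⟨γ, hγ⟩ := exists_gamma hF β
      have h1 := congrFun h0 ⟨![1, γ, β], by
        rw [herm_def, Fin.sum_univ_three]
        simp [hγ]
        ring, fun hh => by simpa using congrFun hh 0⟩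
      change row 0 2 h02 (m + 1) ⬝ᵥ V _ = 0 at h1
      rw [hrow 0 2 h02] at h1
      exact hβ h1
    · obtain ⟨β, hβ⟩ := key ((m : Fin q) + 1)
      obtain ⟨γ, hγ⟩ := exists_gamma hF β
      have h1 := congrFun h0 ⟨![γ, 1, β], by
        rw [herm_def, Fin.sum_univ_three]
        simp [hγ]
        ring, fun hh => by simpa using congrFun hh 1⟩
      change row 1 2 h12 ((m : Fin q) + 1) ⬝ᵥ V _ = 0 at h1
      rw [hrow 1 2 h12] at h1
      exact hβ h1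
  · have hone : ∀ m, m < q + 1 → j ζ ^ m = 1 → m = 0 := by
      intro m hm h1
      exact hω.pow_inj hm (by omega) (by rw [h1, pow_zero])
    have hinv : ∀ x : S3, (j ζ ^ (a + (((x : Fin q) : ℕ) + 1)))⁻¹ ≠ 1 := by
      intro x hx
      have h1 := (hd _).1 (inv_eq_one.1 hx)
      exact (Finset.mem_filter.1 x.2).2 h1
    rintro (m | m | m) (m' | m' | m') h1 h2
    · change j ζ ^ (m : ℕ) = j ζ ^ (m' : ℕ) at h1
      have := hω.pow_inj m.2 m'.2 h1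
      rw [Fin.ext this]
    · change (1 : K) = j ζ ^ ((m' : ℕ) + 1) at h2
      have := hone _ (by omega) h2.symm
      omega
    · change (1 : K) = j ζ ^ (((m' : Fin q) : ℕ) + 1) at h2
      have := hone _ (by omega) h2.symm
      omega
    · change j ζ ^ ((m : ℕ) + 1) = (1 : K) at h2
      have := hone _ (by omega) h2
      omega
    · change j ζ ^ ((m : ℕ) + 1) = j ζ ^ ((m' : ℕ) + 1) at h2
      have := hω.pow_inj (by omega) (by omega) h2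
      rw [Fin.ext (by omega : (m : ℕ) = m')]
    · change (1 : K) = (j ζ ^ (a + (((m' : Fin q) : ℕ) + 1)))⁻¹ at h1
      exact absurd h1.symm (hinv m')
    · change j ζ ^ (((m : Fin q) : ℕ) + 1) = (1 : K) at h2
      have := hone _ (by omega) h2
      omega
    · change (j ζ ^ (a + (((m : Fin q) : ℕ) + 1)))⁻¹ = (1 : K) at h1
      exact absurd h1 (hinv m)
    · change j ζ ^ (((m : Fin q) : ℕ) + 1) = j ζ ^ (((m' : Fin q) : ℕ) + 1) at h2
      have h3 := hω.pow_inj (by omega) (by omega) h2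
      have h4 : m = m' := Subtype.ext (Fin.ext (by omega))
      rw [h4]

/-! ### The exponent `1 + r ^ 2 + r ^ 4`, `q = r ^ 3` -/

/-- exponents of the rows, first and second factor -/
def row1 : Fin 3 → ℕ × ℕ × ℕ := ![(0, 0, 1), (0, 0, 0), (1, 0, 0)]
/-- exponents of the columns, first and second factor -/
def col1 : Fin 3 → ℕ × ℕ × ℕ := ![(0, 0, 0), (0, 0, 1), (1, 0, 0)]
/-- exponents of the rows, third factor -/
def row3 : Fin 5 → ℕ × ℕ × ℕ := ![(0, 0, 1), (0, 0, 0), (0, 1, 0), (1, 1, 0), (0, 0, 0)]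
/-- exponents of the columns, third factor -/
def col3 : Fin 5 → ℕ × ℕ × ℕ := ![(0, 0, 0), (0, 0, 1), (0, 1, 0), (0, 0, 0), (1, 1, 0)]

/-- sum of the exponents -/
def ex3 (r : ℕ) (u : ℕ × ℕ × ℕ) (w : ℕ × ℕ × ℕ) (v : ℕ × ℕ × ℕ) : ℕ × ℕ × ℕ :=
  (u.1 + r * w.1 + r ^ 2 * v.1, u.2.1 + r * w.2.1 + r ^ 2 * v.2.1, u.2.2 + r * w.2.2 + r ^ 2 * v.2.2)

theorem ex_inj {r a b c a' b' c' : ℕ} (hr : 2 ≤ r) (ha : a ≤ 1) (hb : b ≤ 1) (hc : c ≤ 1) (ha' : a' ≤ 1) (hb' : b' ≤ 1)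
    (hc' : c' ≤ 1) (h : a + r * b + r ^ 2 * c = a' + r * b' + r ^ 2 * c') : a = a' ∧ b = b' ∧ c = c' := by
  have h4 : 2 * r ≤ r ^ 2 := by rw [pow_two]; exact Nat.mul_le_mul_right _ hr
  interval_cases a <;> interval_cases b <;> interval_cases c <;> interval_cases a' <;> interval_cases b' <;>
    interval_cases c' <;> first | exact ⟨rfl, rfl, rfl⟩ | (exfalso; omega)

theorem ex3_inj {r : ℕ} (hr : 2 ≤ r) {u w v u' w' v' : ℕ × ℕ × ℕ}
    (hu : u.1 ≤ 1 ∧ u.2.1 ≤ 1 ∧ u.2.2 ≤ 1) (hw : w.1 ≤ 1 ∧ w.2.1 ≤ 1 ∧ w.2.2 ≤ 1) (hv : v.1 ≤ 1 ∧ v.2.1 ≤ 1 ∧ v.2.2 ≤ 1)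
    (hu' : u'.1 ≤ 1 ∧ u'.2.1 ≤ 1 ∧ u'.2.2 ≤ 1) (hw' : w'.1 ≤ 1 ∧ w'.2.1 ≤ 1 ∧ w'.2.2 ≤ 1)
    (hv' : v'.1 ≤ 1 ∧ v'.2.1 ≤ 1 ∧ v'.2.2 ≤ 1) (h : ex3 r u w v = ex3 r u' w' v') : u = u' ∧ w = w' ∧ v = v' := by
  simp only [ex3, Prod.mk.injEq] at h
  obtain ⟨h1, h2, h3⟩ := h
  have e1 := ex_inj hr hu.1 hw.1 hv.1 hu'.1 hw'.1 hv'.1 h1
  have e2 := ex_inj hr hu.2.1 hw.2.1 hv.2.1 hu'.2.1 hw'.2.1 hv'.2.1 h2
  have e3 := ex_inj hr hu.2.2 hw.2.2 hv.2.2 hu'.2.2 hw'.2.2 hv'.2.2 h3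
  refine ⟨Prod.ext e1.1 (Prod.ext e2.1 e3.1), Prod.ext e1.2.1 (Prod.ext e2.2.1 e3.2.1),
    Prod.ext e1.2.2 (Prod.ext e2.2.2 e3.2.2)⟩

theorem row1_le : ∀ i, (row1 i).1 ≤ 1 ∧ (row1 i).2.1 ≤ 1 ∧ (row1 i).2.2 ≤ 1 := by decide
theorem col1_le : ∀ i, (col1 i).1 ≤ 1 ∧ (col1 i).2.1 ≤ 1 ∧ (col1 i).2.2 ≤ 1 := by decide
theorem row3_le : ∀ i, (row3 i).1 ≤ 1 ∧ (row3 i).2.1 ≤ 1 ∧ (row3 i).2.2 ≤ 1 := by decide
theorem col3_le : ∀ i, (col3 i).1 ≤ 1 ∧ (col3 i).2.1 ≤ 1 ∧ (col3 i).2.2 ≤ 1 := by decide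
theorem row1_inj : ∀ i k, row1 i = row1 k → i = k := by decide
theorem col1_inj : ∀ i k, col1 i = col1 k → i = k := by decide
theorem rc3 : ∀ i k l : Fin 5, i < 3 → k < 3 → row3 i = row3 l → col3 k = col3 l → l = i ∧ l = k := by decide

theorem small_ex3 {r : ℕ} (hr : 2 ≤ r) {u w v : ℕ × ℕ × ℕ} (hu : u.1 ≤ 1 ∧ u.2.1 ≤ 1 ∧ u.2.2 ≤ 1)
    (hw : w.1 ≤ 1 ∧ w.2.1 ≤ 1 ∧ w.2.2 ≤ 1) (hv : v.1 ≤ 1 ∧ v.2.1 ≤ 1 ∧ v.2.2 ≤ 1) : Small (r ^ 3) (ex3 r u w v) := by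
  have key : ∀ a b c : ℕ, a ≤ 1 → b ≤ 1 → c ≤ 1 → a + r * b + r ^ 2 * c < r ^ 3 := by
    intro a b c ha hb hc
    have h1 : r * b ≤ r * 1 := Nat.mul_le_mul_left _ hb
    have h2 : r ^ 2 * c ≤ r ^ 2 * 1 := Nat.mul_le_mul_left _ hc
    have h3 : 2 * r ^ 2 ≤ r ^ 3 := by
      rw [pow_succ r 2, mul_comm]
      exact Nat.mul_le_mul_left _ hr
    have h4 : 2 * r ≤ r ^ 2 := by rw [pow_two]; exact Nat.mul_le_mul_right _ hr
    omega
  exact ⟨key _ _ _ hu.1 hw.1 hv.1, key _ _ _ hu.2.1 hw.2.1 hv.2.1, key _ _ _ hu.2.2 hw.2.2 hv.2.2⟩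

/-- the signs -/
def sg3 (K : Type*) [Field K] : Fin 5 → K := ![-1, -1, 1, -1, -1]

/-- **the rank of `h ^ (1 + r ^ 2 + r ^ 4)`** -/
theorem rank_triple {p : ℕ} [hp : Fact p.Prime] [CharP E p] [CharP K p] (hF : Fintype.card E = q ^ 2) {g : ℕ}
    (hg : 0 < g) (hq : q = (p ^ g) ^ 3) {j : E →+* K} {Φ V : Iso q E → κ → K}
    (h : Ker q j ((1 + (p ^ g) ^ 2) + q * p ^ g) Φ V) : 27 ≤ Fintype.card κ := by
  classical
  set r := p ^ g with hr
  have hr2 : 2 ≤ r := by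
    have : p ^ 1 ≤ p ^ g := Nat.pow_le_pow_right hp.out.pos hg
    rw [pow_one] at this
    exact hp.out.two_le.trans this
  have hadd : ∀ x y : K, (x + y) ^ r = x ^ r + y ^ r := fun x y => add_pow_char_pow x y p g
  have hadd2 : ∀ x y : K, (x + y) ^ r ^ 2 = x ^ r ^ 2 + y ^ r ^ 2 := by
    intro x y
    rw [hr, ← pow_mul]
    exact add_pow_char_pow x y p _
  have hneg : ∀ x : K, (-x) ^ r = - x ^ r := by
    intro x
    have h1 := hadd x (-x)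
    rw [add_neg_cancel, zero_pow (by omega)] at h1
    exact (neg_eq_of_add_eq_zero_right h1.symm).symm
  have hS : ((Finset.univ : Finset (Fin 3 × Fin 3 × Fin 5)).filter fun t => t.2.2 < 3).card = 27 := by decide
  rw [← hS]
  refine h.pivot_diag hF (Finset.univ : Finset (Fin 3 × Fin 3 × Fin 5)) (fun t => sg3 K t.2.2)
    (fun t => ex3 r (row1 t.1) (row3 t.2.2) (row1 t.2.1)) (fun t => ex3 r (col1 t.1) (col3 t.2.2) (col1 t.2.1))
    ?_ ?_ ?_ _ (Finset.filter_subset _ _) ?_ ?_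
  · intro t _ _
    rw [hq]
    exact small_ex3 hr2 (row1_le _) (row3_le _) (row1_le _)
  · intro t _ _
    rw [hq]
    exact small_ex3 hr2 (col1_le _) (col3_le _) (col1_le _)
  · intro z w
    rw [pow_expand hF, pow_add, pow_one]
    simp only [mono]
    generalize j z.1.1 ^ q = xb
    generalize j w.1.1 ^ q = cb
    generalize j z.1.1 = x
    generalize j w.1.1 = c
    generalize j z.1.2 = y
    generalize j w.1.2 = d
    have e1 : (-(y + d) - x * xb - c * cb + xb * cb) ^ r =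
        -y ^ r - d ^ r - x ^ r * xb ^ r - c ^ r * cb ^ r + xb ^ r * cb ^ r := by
      rw [sub_eq_add_neg, sub_eq_add_neg, hadd, hadd, hadd, hneg, hneg, hneg, hadd, mul_pow, mul_pow, mul_pow]
      ring
    have e2 : (y + d + x * c) ^ r ^ 2 = y ^ r ^ 2 + d ^ r ^ 2 + x ^ r ^ 2 * c ^ r ^ 2 := by
      rw [hadd2, hadd2, mul_pow]
    rw [e1, e2]
    simp only [Fintype.sum_prod_type, Fin.sum_univ_succ, Fin.sum_univ_zero, sg3, ex3, row1, col1, row3, col3,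
      Matrix.cons_val_zero, Matrix.cons_val_succ, Matrix.cons_val_one, Finset.univ_eq_empty, Finset.sum_empty,
      pow_add, pow_zero, pow_one, mul_zero, mul_one, one_mul, Fin.isValue, Fin.succ_zero_eq_one]
    ring
  · intro s _
    have : ∀ i : Fin 5, sg3 K i ≠ 0 := by
      intro i
      fin_cases i <;> simp [sg3]
    exact this _
  · rintro ⟨i, l, m⟩ hs ⟨i', l', m'⟩ hs' ⟨i'', l'', m''⟩ - - h1 h2
    have hm := (Finset.mem_filter.1 hs).2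
    have hm' := (Finset.mem_filter.1 hs').2
    obtain ⟨e1, e2, e3⟩ := ex3_inj hr2 (row1_le _) (row3_le _) (row1_le _) (row1_le _) (row3_le _) (row1_le _) h1
    obtain ⟨f1, f2, f3⟩ := ex3_inj hr2 (col1_le _) (col3_le _) (col1_le _) (col1_le _) (col3_le _) (col1_le _) h2
    obtain ⟨g1, g2⟩ := rc3 _ _ _ hm hm' e2 f2
    have k1 := row1_inj _ _ e1
    have k2 := row1_inj _ _ e3
    have k3 := col1_inj _ _ f1
    have k4 := col1_inj _ _ f3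
    simp only at k1 k2 k3 k4 g1 g2
    rw [k1, k2, k3, k4, g1]
    exact ⟨rfl, by rw [← g1, g2]⟩

end Cfsg.Agent.H525.Ppd
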